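import Cfsg.Agent.U43Seven.Cyclic
import Cfsg.Agent.Lib.Unitary.Center

/-!
The normaliser of a subgroup of order seven in PSU₄(3).
-/

set_option autoImplicit false

namespace Cfsg.Agent.U43Seven

open Polynomial Cfsg
open Cfsg.Agent.Unitary (herm)

variable {K : Type} [Field K] [Fintype K]

/-- An element of `SU₄(3)` as a linear map. -/
def rho : SU 4 K 3 →* Module.End K (Fin 4 → K) where
  toFun g := Matrix.toLin' (g.1.1 : Matrix (Fin 4) (Fin 4) K)
  map_one' := Matrix.toLin'_one
  map_mul' a b := Matrix.toLin'_mul _ _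

omit [Fintype K] in
theorem rho_apply (g : SU 4 K 3) (x : Fin 4 → K) : rho g x = g • x := rfl

omit [Fintype K] in
theorem rho_injective : Function.Injective (rho : SU 4 K 3 → Module.End K (Fin 4 → K)) :=
  fun _ _ h => Subtype.ext (Subtype.ext (Matrix.toLin'.injective h))

omit [Fintype K] in
theorem det_rho (g : SU 4 K 3) : LinearMap.det (rho g) = 1 :=
  (LinearMap.det_toLin' _).trans g.1.2

variable (hK : Fintype.card K = 9)
include hK

theorem sq_card : Fintype.card K = 3 ^ 2 := by rw [hK]; norm_num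

theorem mem_center {g : SU 4 K 3} {r : K} (h : rho g = r • 1) :
    g ∈ Subgroup.center (SU 4 K 3) :=
  (Unitary.mem_center_iff (sq_card hK) (by norm_num)).2
    ⟨r, fun x => by rw [← rho_apply, h]; rfl⟩

theorem card_center : Nat.card (Subgroup.center (SU 4 K 3)) = 4 := by
  rw [Unitary.card_center (sq_card hK) (by norm_num)]; norm_num

theorem card_PSU : Nat.card (PSU 4 K 3) = 3265920 := by
  have h := Unitary.card_PSU (sq_card hK) (n := 4) (by norm_num)
  norm_num [Finset.prod_range_succ, show ¬ Even 1 by decide, show Even 2 by decide,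
    show ¬ Even 3 by decide] at h
  change 4 * (4 * Nat.card (PSU 4 K 3)) = _ at h
  omega

variable {x : SU 4 K 3} (hx : x ^ 7 = 1) (hx1 : x ≠ 1)
include hx hx1

omit hK in
theorem rho_seven : rho x ^ 7 = 1 ∧ rho x ≠ 1 :=
  ⟨by rw [← map_pow, hx, map_one], fun e => hx1 (rho_injective (e.trans (map_one _).symm))⟩

omit hx1 in
theorem inv_apply (i : ℕ) (u v : Fin 4 → K) :
    herm 3 ((rho x ^ i) u) v = herm 3 u ((rho x ^ (6 * i)) v) := by
  rw [← map_pow, ← map_pow, rho_apply, rho_apply,
    ← Unitary.herm_smul_SU (x ^ i) u (x ^ (6 * i) • v), ← mul_smul, ← pow_add,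
    show i + 6 * i = 7 * i by ring, pow_mul, hx, one_pow, one_smul]

/-- The centraliser of `x` has exponent dividing 28. -/
theorem pow_twentyeight {y : SU 4 K 3} (hy : Commute y x) : y ^ 28 = 1 := by
  obtain ⟨h7, hne⟩ := rho_seven hx hx1
  obtain ⟨q, hq⟩ := exists_aeval h7 hK (Module.finrank_fin_fun K) hne (hy.map rho)
  have := charP_three hK
  have : Fact (Nat.Prime 3) := ⟨Nat.prime_three⟩
  have h27 : rho y ^ 27 =
      ∑ i ∈ Finset.range (q.natDegree + 1), q.coeff i ^ 3 • rho x ^ (6 * i) := by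
    rw [hq, show 27 = 3 ^ 3 from rfl, ← map_pow, q.as_sum_range_C_mul_X_pow,
      sum_pow_char_pow, map_sum, ← q.as_sum_range_C_mul_X_pow]
    refine Finset.sum_congr rfl fun i _ => ?_
    rw [mul_pow, map_mul, ← C_pow, aeval_C, ← pow_mul, aeval_X_pow,
      pow_mod_seven h7 (i * 3 ^ 3), pow_mod_seven h7 (6 * i), ← Algebra.smul_def]
    congr 1
    · rw [show q.coeff i ^ (3 ^ 3) = (q.coeff i ^ Fintype.card K) ^ 3 by
        rw [← pow_mul, hK]; norm_num, FiniteField.pow_card]
    · congr 1
      omega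
  have e : ∀ u v, herm 3 u (rho (y ^ 27) v) = herm 3 u (rho y⁻¹ v) := by
    intro u v
    rw [show herm 3 u (rho y⁻¹ v) = herm 3 (rho y u) v by
      rw [rho_apply, rho_apply, ← Unitary.herm_smul_SU y u (y⁻¹ • v), smul_inv_smul]]
    rw [map_pow, h27, hq, aeval_eq_sum_range]
    simp only [LinearMap.sum_apply, LinearMap.smul_apply, Unitary.herm_sum_left,
      Unitary.herm_smul_left, inv_apply hK hx]
    rw [Unitary.herm_swap (sq_card hK), Unitary.herm_sum_left, Unitary.sum_pow_q (sq_card hK)]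
    refine Finset.sum_congr rfl fun i _ => ?_
    rw [Unitary.herm_smul_left, mul_pow, ← Unitary.herm_swap (sq_card hK), ← pow_mul,
      show 3 * 3 = Fintype.card K from hK.symm, FiniteField.pow_card, ← inv_apply hK hx]
  have h : y ^ 27 = y⁻¹ := rho_injective <| LinearMap.ext fun v => sub_eq_zero.1 <|
    Unitary.eq_zero_of_herm (sq_card hK) fun u => by
      rw [Unitary.herm_eq_zero_comm (sq_card hK), Unitary.herm_sub_right (sq_card hK), e, sub_self]
  rw [pow_succ, h, inv_mul_cancel]

/-- Elements of order dividing four in the centraliser of `x` are central. -/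
theorem mem_center_of_pow_four {y : SU 4 K 3} (hy : Commute y x) (h4 : y ^ 4 = 1) :
    y ∈ Subgroup.center (SU 4 K 3) := by
  obtain ⟨h7, hne⟩ := rho_seven hx hx1
  have hg4 : rho y ^ 4 = 1 := by rw [← map_pow, h4, map_one]
  obtain ⟨a, b, hab⟩ :=
    exists_scalar_moved h7 hK (Module.finrank_fin_fun K) hne (hy.map rho) hg4
  refine mem_center hK (r := a) ?_
  have hd := det_rho y
  rw [hab, det_scalar_add h7 hK (Module.finrank_fin_fun K) hne] at hd
  suffices b = 0 by rw [hab, this, zero_smul, add_zero]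
  obtain ⟨v, hv0, hfv, hev, hline⟩ := exists_fixed h7 hK (Module.finrank_fin_fun K) hne
  obtain ⟨u, hu, hu0⟩ := Submodule.exists_mem_ne_zero_of_ne_bot
    (p := LinearMap.ker (avg (rho x))) fun h => by
      have := finrank_moved h7 hK (Module.finrank_fin_fun K) hne
      rw [h, finrank_bot] at this
      omega
  rw [LinearMap.mem_ker] at hu
  have hgu : ∀ n : ℕ, (rho y ^ n) u = a ^ n • u := fun n => by
    induction n with
    | zero => simp
    | succ n ih =>
      rw [pow_succ', Module.End.mul_apply, ih, map_smul, hab]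
      simp [hu, smul_smul, pow_succ]
  have ha : a ^ 4 = 1 := by
    have h := hgu 4
    rw [hg4, Module.End.one_apply] at h
    by_contra hc
    have h0 : (a ^ 4 - 1) • u = 0 := by rw [sub_smul, one_smul, ← h, sub_self]
    exact hu0 ((smul_eq_zero.1 h0).resolve_left (sub_ne_zero.2 hc))
  have ha0 : a ≠ 0 := fun e => by simp [e] at ha
  exact (mul_eq_zero.1 (show a ^ 3 * b = 0 by linear_combination hd - ha)).resolve_left
    (pow_ne_zero _ ha0)

/-- No element conjugates `x` to its third, fifth or sixth power. -/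
theorem cube_mod_seven {y : SU 4 K 3} {k : ℕ} (hk : k < 7) (hk0 : k ≠ 0)
    (hy : y * x * y⁻¹ = x ^ k) : k ^ 3 % 7 = 1 := by
  obtain ⟨h7, hne⟩ := rho_seven hx hx1
  have hV : Module.finrank K (Fin 4 → K) = 4 := Module.finrank_fin_fun K
  by_contra hbad
  obtain ⟨u, hu, hu0⟩ := Submodule.exists_mem_ne_zero_of_ne_bot
    (p := LinearMap.ker (avg (rho x))) fun h => by
      have := finrank_moved h7 hK hV hne
      rw [h, finrank_bot] at this
      omega
  rw [LinearMap.mem_ker] at hu
  obtain ⟨F, hF, hdeg, hroot⟩ := exists_cubic h7 hK hV hne hu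
  -- polynomials killing one moved vector kill all
  have kill : ∀ {P : K[X]} {t : ℕ} {w : Fin 4 → K}, avg (rho x) w = 0 → w ≠ 0 →
      aeval (rho x ^ t) P w = 0 → ∀ z, avg (rho x) z = 0 → aeval (rho x ^ t) P z = 0 := by
    intro P t w hw hw0 hPw z hz
    refine moved_le h7 hK hV hne (W := LinearMap.ker (aeval (rho x ^ t) P)) (fun a ha => ?_)
      hw hw0 hPw hz
    have hc : Commute (rho x) (aeval (rho x ^ t) P) := by
      rw [← aeval_X_pow (R := K) (rho x), ← aeval_comp]
      nth_rewrite 1 [← aeval_X (R := K) (rho x)]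
      exact (Commute.all X (P.comp (X ^ t))).map (aeval (rho x))
    rw [LinearMap.mem_ker] at ha ⊢
    exact ((DFunLike.congr_fun hc.eq a).symm).trans (by
      show rho x (aeval (rho x ^ t) P a) = 0
      rw [ha, map_zero])
  have frob : ∀ (t : ℕ) (w : Fin 4 → K), aeval (rho x ^ t) F w = 0 →
      aeval (rho x ^ (2 * t % 7)) F w = 0 := fun t w h => by
    rw [← pow_mod_seven h7, show rho x ^ (2 * t) = (rho x ^ t) ^ 9 by
      rw [← pow_mul, pow_mod_seven h7 (2 * t), pow_mod_seven h7 (t * 9)]; congr 1; omega,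
      ← aeval_pow_nine hK, pow_succ, Module.End.mul_apply, h, map_zero]
  have conj : ∀ (t : ℕ), aeval (rho x ^ t) F u = 0 → aeval (rho x ^ (k * t % 7)) F u = 0 := by
    intro t ht
    have hcomm : rho y * rho x ^ t = rho x ^ (k * t) * rho y := by
      rw [← map_pow, ← map_pow, ← map_mul, ← map_mul, pow_mul, ← hy, conj_pow,
        inv_mul_cancel_right]
    have hyu : avg (rho x) (rho y u) = 0 ∧ rho y u ≠ 0 := by
      refine ⟨?_, fun e => hu0 ?_⟩
      · have h1 : rho y * rho x = rho x ^ k * rho y := by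
          rw [← map_pow, ← map_mul, ← map_mul, ← hy, inv_mul_cancel_right]
        have h2 : ∀ i : ℕ, rho y * rho x ^ i = rho x ^ (k * i) * rho y := fun i => by
          induction i with
          | zero => simp
          | succ i ih =>
            rw [pow_succ, ← mul_assoc, ih, mul_assoc, h1, ← mul_assoc, ← pow_add, mul_add, mul_one]
        have h3 : rho y * avg (rho x) = avg (rho x) * rho y := by
          rw [show rho y * avg (rho x) = (∑ i ∈ Finset.range 7, rho x ^ (k * i)) * rho y by
            rw [avg, Finset.mul_sum, Finset.sum_mul]; exact Finset.sum_congr rfl fun i _ => h2 i,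
            sum_pow_mul h7 (by omega : k % 7 ≠ 0)]
        rw [← Module.End.mul_apply, ← h3, Module.End.mul_apply, hu, map_zero]
      · have := congrArg (rho y⁻¹) e
        rwa [map_zero, ← Module.End.mul_apply, ← map_mul, inv_mul_cancel, map_one,
          Module.End.one_apply] at this
    rw [← pow_mod_seven h7]
    refine kill hyu.1 hyu.2 ?_ u hu
    have key : ∀ P : K[X], rho y * aeval (rho x ^ t) P = aeval (rho x ^ (k * t)) P * rho y := by
      intro P
      induction P using Polynomial.induction_on' with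
      | add a b ha hb => rw [map_add, map_add, mul_add, add_mul, ha, hb]
      | monomial n a =>
        rw [aeval_monomial, aeval_monomial, ← Algebra.smul_def, ← Algebra.smul_def, mul_smul_comm,
          smul_mul_assoc]
        congr 1
        exact SemiconjBy.pow_right hcomm n
    rw [← Module.End.mul_apply, ← key, Module.End.mul_apply, ht, map_zero]
  have r1 : aeval (rho x ^ 1) F u = 0 := by rwa [pow_one]
  have r2 := frob 1 u r1
  have r4 := frob _ u r2
  have s1 := conj 1 r1
  have s2 := conj _ r2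
  have s4 := conj _ r4
  refine not_six_roots h7 hK hV hne hu hu0 hF hdeg fun j hj hj0 => ?_
  obtain ⟨S, hS⟩ : ∃ S : ℕ → Prop, ∀ t, S t ↔ aeval (rho x ^ t) F u = 0 := ⟨_, fun _ => Iff.rfl⟩
  rw [← hS] at r1 r2 r4 s1 s2 s4 ⊢
  clear conj frob kill hroot
  interval_cases k <;> first
    | exact absurd rfl hk0
    | exact absurd rfl hbad
    | (norm_num at r1 r2 r4 s1 s2 s4
       interval_cases j <;> first
        | exact absurd rfl hj0
        | assumption)

omit hx hx1

/-- The normaliser of a subgroup of order seven of `PSU₄(3)`. -/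
theorem normalizer_seven (X : Subgroup (PSU 4 K 3)) (hX : Nat.card X = 7) :
    Nat.card ↥(Subgroup.normalizer (X : Set (PSU 4 K 3))) = 21 ∧
      Subgroup.centralizer (X : Set (PSU 4 K 3)) = X := by
  have : Fact (Nat.Prime 7) := ⟨by norm_num⟩
  have : IsCyclic X := isCyclic_of_prime_card hX
  obtain ⟨ξ, hξ⟩ := IsCyclic.exists_generator (α := X)
  have hξo : orderOf (ξ : PSU 4 K 3) = 7 := by
    rw [Subgroup.orderOf_coe, orderOf_eq_card_of_forall_mem_zpowers hξ, hX]
  have hXz : X = Subgroup.zpowers (ξ : PSU 4 K 3) :=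
    (Subgroup.eq_of_le_of_card_ge (Subgroup.zpowers_le.2 ξ.2)
      (by rw [Nat.card_zpowers, hξo, hX])).symm
  -- the lift of order seven
  let π := QuotientGroup.mk' (Subgroup.center (SU 4 K 3))
  have hker : ∀ z : SU 4 K 3, π z = 1 → z ^ 4 = 1 ∧ ∀ w, z * w = w * z := fun z hz => by
    have hm : z ∈ Subgroup.center (SU 4 K 3) := (QuotientGroup.eq_one_iff z).1 hz
    refine ⟨?_, fun w => (Subgroup.mem_center_iff.1 hm w).symm⟩
    have := pow_card_eq_one' (x := (⟨z, hm⟩ : Subgroup.center (SU 4 K 3)))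
    rw [card_center hK] at this
    exact congrArg Subtype.val this
  obtain ⟨g, hg⟩ := QuotientGroup.mk'_surjective _ (ξ : PSU 4 K 3)
  have hg28 : g ^ 28 = 1 := by
    rw [show 28 = 7 * 4 from rfl, pow_mul]
    exact (hker _ (by simp only [π, map_pow, hg]; rw [← hξo, pow_orderOf_eq_one])).1
  have hξ7 : (ξ : PSU 4 K 3) ^ 7 = 1 := hξo ▸ pow_orderOf_eq_one _
  set x := g ^ 8 with hxdef
  have hπx : π x = ξ := by
    simp only [π, hxdef, map_pow, hg]
    rw [pow_succ, hξ7, one_mul]
  have hx : x ^ 7 = 1 := by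
    rw [hxdef, ← pow_mul, show 8 * 7 = 28 * 2 from rfl, pow_mul, hg28, one_pow]
  have hx1 : x ≠ 1 := fun e => by
    rw [e, map_one] at hπx
    rw [← hπx, orderOf_one] at hξo
    norm_num at hξo
  -- exact lifting of conjugation relations
  have lift : ∀ (y : SU 4 K 3) (k : ℕ), π y * ξ * (π y)⁻¹ = (ξ : PSU 4 K 3) ^ k →
      y * x * y⁻¹ = x ^ k := fun y k h => by
    have h4 := hker ((y * x * y⁻¹) * (x ^ k)⁻¹) (by
      simp only [map_mul, map_inv, map_pow, hπx, h, mul_inv_cancel])
    have hc : Commute (y * x * y⁻¹) ((x ^ k)⁻¹) := by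
      have := h4.2 (x ^ k)
      rw [inv_mul_cancel_right] at this
      refine Commute.inv_right ?_
      show _ = _
      conv_lhs => rw [this]
      group
    have h7 : ((y * x * y⁻¹) * (x ^ k)⁻¹) ^ 7 = 1 := by
      rw [hc.mul_pow, conj_pow, hx, inv_pow, ← pow_mul, mul_comm k, pow_mul, hx, one_pow]
      simp
    have h1 : ((y * x * y⁻¹) * (x ^ k)⁻¹) = 1 := by
      have h8 : ((y * x * y⁻¹) * (x ^ k)⁻¹) ^ 8 = 1 := by
        rw [show 8 = 4 * 2 from rfl, pow_mul, h4.1, one_pow]
      rwa [pow_succ, h7, one_mul] at h8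
    exact mul_inv_eq_one.1 h1
  have hC : ∀ c ∈ Subgroup.centralizer (X : Set (PSU 4 K 3)), c ^ 7 = 1 := by
    intro c hc
    obtain ⟨y, rfl⟩ := QuotientGroup.mk'_surjective _ c
    have hy : Commute y x := by
      have h := lift y 1 (by
        rw [← Subgroup.mem_centralizer_iff.1 hc ξ ξ.2, pow_one, mul_inv_cancel_right])
      rw [pow_one] at h
      exact mul_inv_eq_iff_eq_mul.1 h
    have h28 := pow_twentyeight hK hx hx1 hy
    rw [← map_pow, ← MonoidHom.mem_ker, QuotientGroup.ker_mk']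
    exact mem_center_of_pow_four hK hx hx1 (hy.pow_left 7) (by rw [← pow_mul]; exact h28)
  have hsyl : ¬ 49 ∣ Nat.card (PSU 4 K 3) := by rw [card_PSU hK]; norm_num
  have hCX : Subgroup.centralizer (X : Set (PSU 4 K 3)) = X := by
    set C := Subgroup.centralizer (X : Set (PSU 4 K 3))
    have hle : X ≤ C := fun a ha => Subgroup.mem_centralizer_iff.2 fun b hb => by
      rw [hXz, SetLike.mem_coe, Subgroup.mem_zpowers_iff] at hb
      rw [hXz, Subgroup.mem_zpowers_iff] at ha
      obtain ⟨i, rfl⟩ := ha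
      obtain ⟨j, rfl⟩ := hb
      exact (zpow_mul_comm _ _ _).symm
    have hp : IsPGroup 7 C := fun c => ⟨1, Subtype.ext (by
      rw [pow_one, SubmonoidClass.coe_pow]; exact hC c.1 c.2)⟩
    obtain ⟨n, hn⟩ := IsPGroup.iff_card.1 hp
    refine (Subgroup.eq_of_le_of_card_ge hle ?_).symm
    rw [hn, hX]
    by_contra hlt
    rcases n with _ | _ | n
    · norm_num at hlt
    · norm_num at hlt
    · exact hsyl (dvd_trans ⟨7 ^ n, by rw [pow_succ, pow_succ]; ring⟩
        (hn ▸ Subgroup.card_subgroup_dvd_card C))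
  refine ⟨?_, hCX⟩
  set N := Subgroup.normalizer (X : Set (PSU 4 K 3))
  have hCN : X ≤ N := Subgroup.le_normalizer
  -- the exponents
  have hexp : ∀ m ∈ N, ∃ k < 7, k ^ 3 % 7 = 1 ∧ m * ξ * m⁻¹ = (ξ : PSU 4 K 3) ^ k := by
    intro m hm
    have hmem : m * ξ * m⁻¹ ∈ X := (Subgroup.mem_normalizer_iff.1 hm ξ).1 ξ.2
    have hmem' := hXz.le hmem
    rw [← mem_powers_iff_mem_zpowers, Submonoid.mem_powers_iff] at hmem'
    obtain ⟨i, hi⟩ := hmem'
    have hk : m * ξ * m⁻¹ = (ξ : PSU 4 K 3) ^ (i % 7) := by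
      rw [← hi, ← pow_mod_orderOf _ i, hξo]
    have hk0 : i % 7 ≠ 0 := fun e => by
      rw [e, pow_zero, conj_eq_one_iff] at hk
      rw [hk, orderOf_one] at hξo
      norm_num at hξo
    obtain ⟨y, rfl⟩ := QuotientGroup.mk'_surjective _ m
    exact ⟨i % 7, Nat.mod_lt _ (by norm_num),
      cube_mod_seven hK hx hx1 (Nat.mod_lt _ (by norm_num)) hk0 (lift y _ hk), hk⟩
  choose! e he7 he3 he using hexp
  have hfib : ∀ a ∈ N, ∀ b ∈ N, e a = e b → b⁻¹ * a ∈ X := fun a ha b hb hab => by
    have h : (b⁻¹ * a) * ξ * (b⁻¹ * a)⁻¹ = (ξ : PSU 4 K 3) := by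
      rw [show b⁻¹ * a * ξ * (b⁻¹ * a)⁻¹ = b⁻¹ * (a * ξ * a⁻¹) * b by group, he a ha, hab,
        ← he b hb]
      group
    rw [← hCX, Subgroup.mem_centralizer_iff]
    intro c hc
    rw [hXz, SetLike.mem_coe, Subgroup.mem_zpowers_iff] at hc
    obtain ⟨i, rfl⟩ := hc
    exact ((show Commute (b⁻¹ * a) (ξ : PSU 4 K 3) from mul_inv_eq_iff_eq_mul.1 h).zpow_right i).symm.eq
  classical
  let T := {k : Fin 7 // k.val ^ 3 % 7 = 1}
  let ev : N → T := fun a => ⟨⟨e a.1, he7 _ a.2⟩, he3 _ a.2⟩
  let rep : T → N := fun t => if h : ∃ b, ev b = t then h.choose else 1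
  have hrep : ∀ a, ev (rep (ev a)) = ev a := fun a => by
    have h : ∃ b, ev b = ev a := ⟨a, rfl⟩
    simp only [rep, dif_pos h]
    exact h.choose_spec
  let F : N → T × X := fun a => (ev a, ⟨(rep (ev a)).1⁻¹ * a.1,
    hfib _ a.2 _ (rep (ev a)).2 (congrArg (fun t : T => t.1.val) (hrep a)).symm⟩)
  have hF : Function.Injective F := fun a b h => by
    obtain ⟨h1, h2⟩ := Prod.ext_iff.1 h
    have h3 := congrArg Subtype.val h2
    simp only [F] at h1 h3
    rw [h1] at h3
    exact Subtype.ext (mul_left_cancel h3)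
  have hle : Nat.card N ≤ 21 := by
    refine (Nat.card_le_card_of_injective F hF).trans ?_
    rw [Nat.card_prod, hX, Nat.card_eq_fintype_card,
      show Fintype.card T = 3 from by decide +kernel]
  obtain ⟨c, hc⟩ : 7 ∣ Nat.card N := hX ▸ Subgroup.card_dvd_of_le hCN
  let P : Sylow 7 (PSU 4 K 3) := Sylow.ofCard X (by
    rw [hX, card_PSU hK, Nat.factorization_def _ (by norm_num)]
    rw [show padicValNat 7 3265920 = 1 by
      rw [show (3265920 : ℕ) = 7 * 466560 from rfl, padicValNat.mul (by norm_num) (by norm_num),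
        padicValNat.self (by norm_num), padicValNat.eq_zero_of_not_dvd (by norm_num)]]
    norm_num)
  have hmod := card_sylow_modEq_one 7 (PSU 4 K 3)
  rw [Sylow.card_eq_index_normalizer P] at hmod
  have hidx : 7 * c * (Subgroup.normalizer ((P : Subgroup (PSU 4 K 3)) :
      Set (PSU 4 K 3))).index = 3265920 := by
    rw [← card_PSU hK, ← hc]
    exact N.card_mul_index
  rw [Nat.ModEq] at hmod
  have : c ≤ 3 := by omega
  interval_cases c <;> first
    | exact hc
    | (norm_num at hidx <;> omega)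

end Cfsg.Agent.U43Seven
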