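import Mathlib

/-!
An endomorphism of order seven of a four-dimensional space over a field with nine elements: the
fixed line, its complement without proper invariant subspaces, commuting maps.
-/

set_option autoImplicit false

namespace Cfsg.Agent.U43Seven

open Polynomial

variable {K : Type*} [Field K] [Fintype K] {V : Type*} [AddCommGroup V] [Module K V]
  [Module.Finite K V]

/-- The sum of the powers of `f` below seven. -/
def avg (f : Module.End K V) : Module.End K V := ∑ i ∈ Finset.range 7, f ^ i

theorem charP_three (hK : Fintype.card K = 9) : CharP K 3 := by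
  obtain ⟨p, hp⟩ := CharP.exists K
  obtain ⟨n, hpr, hn⟩ := FiniteField.card K p
  have h3 : p ∣ 3 ^ 2 := by
    have h : p ∣ Fintype.card K := hn ▸ dvd_pow_self p n.ne_zero
    rw [hK] at h
    simpa using h
  rwa [← (Nat.prime_dvd_prime_iff_eq hpr Nat.prime_three).1 (hpr.dvd_of_dvd_pow h3)]

section

variable {f : Module.End K V} (h7 : f ^ 7 = 1)
include h7

omit [Fintype K] [Module.Finite K V] in
theorem pow_mod_seven (t : ℕ) : f ^ t = f ^ (t % 7) := by
  conv_lhs => rw [← Nat.mod_add_div t 7, pow_add, pow_mul, h7, one_pow, mul_one]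

omit [Fintype K] [Module.Finite K V] in
theorem mul_avg : f * avg f = avg f := by
  rw [avg, Finset.mul_sum]
  simp only [← pow_succ']
  rw [Finset.sum_range_succ, h7, Finset.sum_range_succ' (fun i => f ^ i) 6, pow_zero]

omit [Fintype K] [Module.Finite K V] in
theorem avg_mul : avg f * f = avg f := by
  rw [avg, Finset.sum_mul]
  simp only [← pow_succ]
  rw [Finset.sum_range_succ, h7, Finset.sum_range_succ' (fun i => f ^ i) 6, pow_zero]

omit [Fintype K] [Module.Finite K V] in
theorem pow_mul_avg (i : ℕ) : f ^ i * avg f = avg f := by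
  induction i with
  | zero => rw [pow_zero, one_mul]
  | succ i ih => rw [pow_succ, mul_assoc, mul_avg h7, ih]

omit [Fintype K] [Module.Finite K V] in
theorem avg_apply_f (u : V) : avg f (f u) = avg f u := DFunLike.congr_fun (avg_mul h7) u

omit [Fintype K] [Module.Finite K V] in
theorem avg_apply_pow (i : ℕ) (u : V) : avg f ((f ^ i) u) = avg f u := by
  induction i with
  | zero => rfl
  | succ i ih => rw [pow_succ', Module.End.mul_apply, avg_apply_f h7, ih]

omit [Fintype K] [Module.Finite K V] in
theorem sum_pow_mul {t : ℕ} (ht : t % 7 ≠ 0) :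
    ∑ j ∈ Finset.range 7, f ^ (t * j) = avg f := by
  have e : ∀ j, f ^ (t * j) = f ^ ((t % 7 * j) % 7) := fun j => by
    rw [pow_mod_seven h7, Nat.mod_mul_mod]
  rw [Finset.sum_congr rfl fun j _ => e j]
  have h := Nat.mod_lt t (by norm_num : 7 > 0)
  simp only [avg, Finset.sum_range_succ, Finset.sum_range_zero]
  interval_cases t % 7 <;> first | exact absurd rfl ht | (norm_num; try abel)

variable (hK : Fintype.card K = 9)
include hK

omit [Module.Finite K V] in
theorem seven_smul (x : V) : (7 : ℕ) • x = x := by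
  have := charP_three hK
  rw [← Nat.cast_smul_eq_nsmul K, show ((7 : ℕ) : K) = 1 by
    rw [show (7 : ℕ) = 3 * 2 + 1 from rfl, Nat.cast_add, Nat.cast_mul, CharP.cast_eq_zero K 3,
      zero_mul, zero_add, Nat.cast_one], one_smul]

omit [Module.Finite K V] in
theorem avg_avg (x : V) : avg f (avg f x) = avg f x := by
  conv_lhs => simp only [avg, LinearMap.sum_apply, map_sum]
  have e : ∀ i ∈ Finset.range 7, (∑ j ∈ Finset.range 7, f ^ j) ((f ^ i) x) = avg f x :=
    fun i _ => avg_apply_pow h7 i x
  simp only [LinearMap.sum_apply] at e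
  rw [Finset.sum_congr rfl e, Finset.sum_const, Finset.card_range, seven_smul h7 hK]

omit [Module.Finite K V] in
theorem eq_zero_of_fixed {u : V} (hu : avg f u = 0) (hfix : f u = u) : u = 0 := by
  have e : ∀ i : ℕ, (f ^ i) u = u := fun i => by
    induction i with
    | zero => rfl
    | succ i ih => rw [pow_succ, Module.End.mul_apply, hfix, ih]
  rw [avg, LinearMap.sum_apply, Finset.sum_congr rfl fun i _ => e i, Finset.sum_const,
    Finset.card_range, seven_smul h7 hK] at hu
  exact hu

/-- Invariant subspaces without fixed vectors have dimension a multiple of three. -/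
theorem three_dvd_finrank {W : Submodule K V} (hW : ∀ w ∈ W, f w ∈ W)
    (h0 : ∀ w ∈ W, avg f w = 0) : 3 ∣ Module.finrank K W := by
  classical
  have : Finite V := Module.finite_of_finite K
  have : Fintype W := Fintype.ofFinite W
  let g : W → W := fun w => ⟨f w.1, hW _ w.2⟩
  have hg7 : ∀ w, g^[7] w = w := fun w => Subtype.ext (by
    show f (f (f (f (f (f (f w.1)))))) = w.1
    exact DFunLike.congr_fun h7 w.1)
  have hinj : Function.Injective g := fun a b hab => by
    have := congrArg (g^[6]) hab
    rwa [← Function.iterate_succ_apply, ← Function.iterate_succ_apply, hg7, hg7] at this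
  let σ : Equiv.Perm W := Equiv.ofBijective g hinj.bijective_of_finite
  have hσ : σ ^ 7 ^ 1 = 1 := by
    rw [pow_one]
    refine Equiv.ext fun w => ?_
    rw [Equiv.Perm.one_apply, ← Equiv.Perm.iterate_eq_pow]
    exact hg7 w
  have : Fact (Nat.Prime 7) := ⟨by norm_num⟩
  have h := Equiv.Perm.card_compl_support_modEq hσ
  have hs : σ.supportᶜ = {0} := by
    ext w
    simp only [Finset.mem_compl, Equiv.Perm.mem_support, ne_eq, not_not, Finset.mem_singleton]
    constructor
    · intro hw
      exact Subtype.ext (eq_zero_of_fixed h7 hK (h0 _ w.2) (congrArg Subtype.val hw))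
    · rintro rfl
      exact Subtype.ext (map_zero f)
  rw [hs, Finset.card_singleton, Module.card_eq_pow_finrank (K := K), hK, Nat.ModEq] at h
  rw [← Nat.mod_add_div (Module.finrank K W) 3, pow_add, pow_mul, Nat.mul_mod, Nat.pow_mod] at h
  norm_num at h
  have := Nat.mod_lt (Module.finrank K W) (by norm_num : 3 > 0)
  rw [Nat.dvd_iff_mod_eq_zero]
  interval_cases hd : Module.finrank K W % 3 <;> first | rfl | norm_num [Nat.mul_mod, Nat.pow_mod] at h

variable (hV : Module.finrank K V = 4) (hne : f ≠ 1)
include hV hne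

theorem finrank_moved : Module.finrank K (LinearMap.ker (avg f)) = 3 := by
  have h3 : 3 ∣ Module.finrank K (LinearMap.ker (avg f)) :=
    three_dvd_finrank h7 hK (fun w hw => by rwa [LinearMap.mem_ker, avg_apply_f h7])
      fun w hw => LinearMap.mem_ker.1 hw
  have hle : Module.finrank K (LinearMap.ker (avg f)) ≤ 4 := hV ▸ Submodule.finrank_le _
  rcases Nat.eq_zero_or_pos (Module.finrank K (LinearMap.ker (avg f))) with h0 | h0
  · exfalso
    rw [Submodule.finrank_eq_zero] at h0
    refine hne (LinearMap.ext fun x => LinearMap.ker_eq_bot.1 h0 ?_)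
    rw [avg_apply_f h7]
    rfl
  · obtain ⟨c, hc⟩ := h3
    omega

theorem exists_fixed : ∃ v : V, v ≠ 0 ∧ f v = v ∧ avg f v = v ∧
    ∀ x, ∃ c : K, avg f x = c • v := by
  have hr : Module.finrank K (LinearMap.range (avg f)) = 1 := by
    have := LinearMap.finrank_range_add_finrank_ker (avg f)
    rw [finrank_moved h7 hK hV hne, hV] at this
    omega
  obtain ⟨⟨v, z, rfl⟩, hv0, hspan⟩ := finrank_eq_one_iff'.1 hr
  refine ⟨avg f z, fun h => hv0 (Subtype.ext h), DFunLike.congr_fun (mul_avg h7) z,
    avg_avg h7 hK z, fun x => ?_⟩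
  obtain ⟨c, hc⟩ := hspan ⟨avg f x, x, rfl⟩
  exact ⟨c, (congrArg Subtype.val hc).symm⟩

/-- A subspace invariant under `f` containing a non-zero moved vector contains all moved vectors. -/
theorem moved_le {W : Submodule K V} (hW : ∀ w ∈ W, f w ∈ W) {u : V} (hu : avg f u = 0)
    (hu0 : u ≠ 0) (huW : u ∈ W) : LinearMap.ker (avg f) ≤ W := by
  have h3 : 3 ∣ Module.finrank K ↥(W ⊓ LinearMap.ker (avg f)) :=
    three_dvd_finrank h7 hK (fun w hw => ⟨hW _ hw.1, by
      show avg f (f w) = 0
      rw [avg_apply_f h7]; exact hw.2⟩) fun w hw => hw.2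
  have hpos : 0 < Module.finrank K ↥(W ⊓ LinearMap.ker (avg f)) := by
    rw [Nat.pos_iff_ne_zero, ne_eq, Submodule.finrank_eq_zero]
    exact fun h => hu0 ((Submodule.eq_bot_iff _).1 h u ⟨huW, hu⟩)
  have hle : Module.finrank K ↥(W ⊓ LinearMap.ker (avg f)) ≤
      Module.finrank K (LinearMap.ker (avg f)) := Submodule.finrank_mono inf_le_right
  have h := finrank_moved h7 hK hV hne
  have he : W ⊓ LinearMap.ker (avg f) = LinearMap.ker (avg f) :=
    Submodule.eq_of_le_of_finrank_eq inf_le_right (by obtain ⟨c, hc⟩ := h3; omega)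
  exact he ▸ inf_le_left

/-- A map commuting with `f` is a polynomial in `f`. -/
theorem exists_aeval {g : Module.End K V} (hg : Commute g f) : ∃ q : K[X], g = aeval f q := by
  obtain ⟨v, hv0, hfv, hev, hline⟩ := exists_fixed h7 hK hV hne
  have hk : 0 < Module.finrank K (LinearMap.ker (avg f)) := by
    rw [finrank_moved h7 hK hV hne]; norm_num
  obtain ⟨u, hu, hu0⟩ := Submodule.exists_mem_ne_zero_of_ne_bot fun h : LinearMap.ker (avg f) = ⊥ =>
    hk.ne' (by rw [h, finrank_bot])
  let O : Submodule K V :=
    LinearMap.range ((LinearMap.applyₗ (v + u)).comp (aeval f : K[X] →ₐ[K] _).toLinearMap)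
  have memO : ∀ {y}, y ∈ O ↔ ∃ q : K[X], aeval f q (v + u) = y := Iff.rfl
  have hOf : ∀ w ∈ O, f w ∈ O := fun w hw => by
    obtain ⟨q, rfl⟩ := memO.1 hw
    exact memO.2 ⟨X * q, by rw [map_mul, aeval_X]; rfl⟩
  have hwO : v + u ∈ O := memO.2 ⟨1, by rw [map_one]; rfl⟩
  have hvO : v ∈ O := by
    have e : avg f (v + u) = v := by rw [map_add, hev, LinearMap.mem_ker.1 hu, add_zero]
    refine memO.2 ⟨∑ i ∈ Finset.range 7, X ^ i, ?_⟩
    rw [map_sum]
    simp only [map_pow, aeval_X]
    exact e
  have huO : u ∈ O := by simpa using O.sub_mem hwO hvO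
  have htop : ∀ x, x ∈ O := fun x => by
    obtain ⟨c, hc⟩ := hline x
    have h1 : x - avg f x ∈ LinearMap.ker (avg f) := by
      rw [LinearMap.mem_ker, map_sub, avg_avg h7 hK, sub_self]
    have h2 := O.add_mem (moved_le h7 hK hV hne hOf (LinearMap.mem_ker.1 hu) hu0 huO h1)
      (hc ▸ O.smul_mem c hvO : avg f x ∈ O)
    rwa [sub_add_cancel] at h2
  obtain ⟨q, hq⟩ := memO.1 (htop (g (v + u)))
  refine ⟨q, LinearMap.ext fun x => ?_⟩
  obtain ⟨p, rfl⟩ := memO.1 (htop x)
  have hc : Commute g (aeval f p) := by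
    induction p using Polynomial.induction_on' with
    | add a b ha hb => rw [map_add]; exact ha.add_right hb
    | monomial n a =>
      rw [aeval_monomial]
      exact (Algebra.commute_algebraMap_right a g).mul_right (hg.pow_right n)
  calc g (aeval f p (v + u)) = aeval f p (g (v + u)) := DFunLike.congr_fun hc.eq (v + u)
    _ = (aeval f p * aeval f q) (v + u) := by rw [← hq]; rfl
    _ = (aeval f q * aeval f p) (v + u) := by rw [← map_mul, mul_comm, map_mul]
    _ = aeval f q (aeval f p (v + u)) := rfl

theorem exists_scalar_moved {g : Module.End K V} (hg : Commute g f) (hg4 : g ^ 4 = 1) :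
    ∃ (a b : K), g = a • 1 + b • avg f := by
  classical
  obtain ⟨v, hv0, hfv, hev, hline⟩ := exists_fixed h7 hK hV hne
  have hge : ∀ x, g (avg f x) = avg f (g x) := fun x => by
    have h : Commute g (avg f) := Commute.sum_right _ _ _ fun i _ => hg.pow_right i
    exact DFunLike.congr_fun h.eq x
  have := charP_three hK
  -- fourth roots of unity are all in the field
  obtain ⟨ω, hω⟩ := IsCyclic.exists_ofOrder_eq_natCard (α := Kˣ)
  rw [Nat.card_units, Nat.card_eq_fintype_card, hK] at hω
  have hw8 : (ω : K) ^ 8 = 1 := by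
    rw [← Units.val_pow_eq_pow_val, show 8 = 9 - 1 from rfl, ← hω, pow_orderOf_eq_one, Units.val_one]
  have hw4 : (ω : K) ^ 4 = -1 := by
    have h : ((ω : K) ^ 4 - 1) * ((ω : K) ^ 4 + 1) = 0 := by linear_combination hw8
    rcases mul_eq_zero.1 h with h | h
    · exfalso
      have h4 : ω ^ 4 = 1 := Units.ext (by rw [Units.val_pow_eq_pow_val]; exact sub_eq_zero.1 h)
      have h4' := orderOf_dvd_of_pow_eq_one h4
      rw [hω] at h4'
      norm_num at h4'
    · exact eq_neg_of_add_eq_zero_left h
  set i : K := (ω : K) ^ 2 with hi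
  have hii : i * i = -1 := by rw [hi, ← pow_add]; exact hw4
  have hker : 0 < Module.finrank K (LinearMap.ker (avg f)) := by
    rw [finrank_moved h7 hK hV hne]; norm_num
  obtain ⟨u, hu, hu0⟩ := Submodule.exists_mem_ne_zero_of_ne_bot fun h : LinearMap.ker (avg f) = ⊥ =>
    hker.ne' (by rw [h, finrank_bot])
  -- an eigenvector among the moved vectors
  obtain ⟨lam, w, hw, hw0, hgw⟩ : ∃ (lam : K) (w : V), avg f w = 0 ∧ w ≠ 0 ∧ g w = lam • w := by
    have step : ∀ (c : K) (x : V), avg f x = 0 →
        avg f (g x - c • x) = 0 := fun c x hx => by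
      rw [map_sub, ← hge, hx, map_zero, map_smul, hx, smul_zero, sub_zero]
    by_cases h1 : g u - (1 : K) • u = 0
    · exact ⟨1, u, hu, hu0, sub_eq_zero.1 h1⟩
    have k1 := step 1 u hu
    set u1 := g u - (1 : K) • u with hu1
    by_cases h2 : g u1 - (-1 : K) • u1 = 0
    · exact ⟨-1, u1, k1, h1, sub_eq_zero.1 h2⟩
    have k2 := step (-1) u1 k1
    set u2 := g u1 - (-1 : K) • u1 with hu2
    by_cases h3 : g u2 - i • u2 = 0
    · exact ⟨i, u2, k2, h2, sub_eq_zero.1 h3⟩
    refine ⟨-i, g u2 - i • u2, step i u2 k2, h3, ?_⟩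
    have h44 : g (g (g (g u))) = u := DFunLike.congr_fun hg4 u
    rw [← sub_eq_zero, hu2, hu1]
    simp only [map_sub, map_smul, smul_sub, smul_smul, neg_smul, one_smul, neg_mul, mul_one,
      mul_neg, hii, neg_neg, sub_neg_eq_add, map_neg, map_add, smul_add, smul_neg, h44]
    abel
  -- the eigenspace contains all moved vectors
  have hU : LinearMap.ker (avg f) ≤ LinearMap.ker (g - lam • 1) :=
    moved_le h7 hK hV hne (fun x hx => by
      simp only [LinearMap.mem_ker, LinearMap.sub_apply, LinearMap.smul_apply,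
        Module.End.one_apply] at hx ⊢
      have hgf : g (f x) = f (g x) := DFunLike.congr_fun hg.eq x
      rw [hgf, ← map_smul, ← map_sub, hx, map_zero]) hw hw0
      (by simp [LinearMap.mem_ker, hgw])
  obtain ⟨mu, hmu⟩ := hline (g v)
  rw [← hge, hev] at hmu
  refine ⟨lam, mu - lam, LinearMap.ext fun x => ?_⟩
  obtain ⟨c, hc⟩ := hline x
  have h1 : x - avg f x ∈ LinearMap.ker (avg f) := by
    rw [LinearMap.mem_ker, map_sub, avg_avg h7 hK, sub_self]
  have h2 := hU h1
  simp only [LinearMap.mem_ker, LinearMap.sub_apply, LinearMap.smul_apply, Module.End.one_apply,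
    map_sub, hge, smul_sub, sub_smul, LinearMap.add_apply] at h2 ⊢
  have h3 : avg f (g x) = mu • avg f x := by
    rw [← hge, hc, map_smul, hmu, smul_comm]
  rw [h3] at h2
  rw [← sub_eq_zero, ← h2]
  abel

/-- The determinant of `a + b * avg f`. -/
theorem det_scalar_add (a b : K) :
    LinearMap.det (a • 1 + b • avg f) = a ^ 3 * (a + b) := by
  obtain ⟨v, hv0, hfv, hev, hline⟩ := exists_fixed h7 hK hV hne
  set U := LinearMap.ker (avg f)
  set L := LinearMap.range (avg f)
  have hUL : IsCompl U L := by
    refine ⟨Submodule.disjoint_def.2 ?_, codisjoint_iff.2 (Submodule.eq_top_iff'.2 fun x => ?_)⟩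
    · rintro x hx ⟨y, rfl⟩
      rw [LinearMap.mem_ker, avg_avg h7 hK] at hx
      exact hx
    · refine Submodule.mem_sup.2 ⟨x - avg f x, ?_, avg f x, ⟨x, rfl⟩, sub_add_cancel _ _⟩
      rw [LinearMap.mem_ker, map_sub, avg_avg h7 hK, sub_self]
  let e := Submodule.prodEquivOfIsCompl U L hUL
  have hconj : (a • 1 + b • avg f : Module.End K V) =
      (e : (U × L) →ₗ[K] V) ∘ₗ ((a • 1 : Module.End K U).prodMap ((a + b) • 1 : Module.End K L)) ∘ₗ
        (e.symm : V →ₗ[K] U × L) := by
    refine LinearMap.ext fun x => ?_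
    obtain ⟨⟨y, z⟩, rfl⟩ := e.surjective x
    simp only [LinearMap.comp_apply, LinearEquiv.coe_coe, LinearEquiv.symm_apply_apply]
    simp only [e, Submodule.coe_prodEquivOfIsCompl', LinearMap.add_apply, LinearMap.smul_apply,
      Module.End.one_apply, LinearMap.prodMap_apply, Submodule.coe_smul, map_add]
    have hz : avg f (z : V) = z := by
      obtain ⟨t, ht⟩ := z.2
      rw [← ht, avg_avg h7 hK]
    rw [LinearMap.mem_ker.1 y.2, hz, smul_zero, add_zero, add_smul]
  have hL : Module.finrank K L = 1 := by
    have := LinearMap.finrank_range_add_finrank_ker (avg f)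
    rw [finrank_moved h7 hK hV hne, hV] at this
    show Module.finrank K (LinearMap.range (avg f)) = 1
    omega
  rw [hconj, LinearMap.det_conj, LinearMap.det_prodMap, LinearMap.det_smul, LinearMap.det_smul,
    finrank_moved h7 hK hV hne, hL, map_one, map_one, mul_one, mul_one, pow_one]

/-- Powers `f ^ j` for `j = 1, …, 6` are not all roots of one monic cubic on a moved vector. -/
theorem not_six_roots {u : V} (hu : avg f u = 0) (hu0 : u ≠ 0) {F : K[X]} (hF : F.Monic)
    (hdeg : F.natDegree = 3) (h : ∀ j < 7, j ≠ 0 → aeval (f ^ j) F u = 0) : False := by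
  have hco : ∀ m < 4, F.coeff m • u = F.eval 1 • u := by
    intro m hm
    have e1 : (∑ j ∈ Finset.range 7, f ^ (6 * m * j) * aeval (f ^ j) F) u = F.eval 1 • u := by
      rw [LinearMap.sum_apply, Finset.sum_range_succ', Finset.sum_eq_zero fun j hj => by
        rw [Module.End.mul_apply, h (j + 1) (by have := Finset.mem_range.1 hj; omega) (by omega),
          map_zero], zero_add, Module.End.mul_apply, mul_zero, pow_zero, Module.End.one_apply]
      rw [show (1 : Module.End K V) = algebraMap K _ 1 from (map_one _).symm,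
        aeval_algebraMap_apply, Module.algebraMap_end_apply, coe_aeval_eq_eval]
    have e2 : (∑ j ∈ Finset.range 7, f ^ (6 * m * j) * aeval (f ^ j) F) u = F.coeff m • u := by
      have e3 : ∀ j, f ^ (6 * m * j) * aeval (f ^ j) F =
          ∑ i ∈ Finset.range 4, F.coeff i • f ^ ((6 * m + i) * j) := fun j => by
        rw [aeval_eq_sum_range' (n := 4) (by omega), Finset.mul_sum]
        refine Finset.sum_congr rfl fun i _ => ?_
        rw [mul_smul_comm, ← pow_mul, ← pow_add]
        congr 2
        ring
      simp only [e3]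
      rw [Finset.sum_comm, LinearMap.sum_apply, Finset.sum_eq_single m]
      · rw [← Finset.smul_sum, LinearMap.smul_apply]
        congr 1
        simp only [show ∀ j : ℕ, (6 * m + m) * j = 7 * (m * j) from fun j => by ring]
        simp only [pow_mul, h7, one_pow, Finset.sum_const, Finset.card_range]
        rw [LinearMap.smul_apply, Module.End.one_apply, seven_smul h7 hK]
      · intro i hi him
        rw [← Finset.smul_sum, sum_pow_mul h7 (by have := Finset.mem_range.1 hi; omega),
          LinearMap.smul_apply, hu, smul_zero]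
      · intro hm'; exact absurd (Finset.mem_range.2 hm) hm'
    rw [← e2, e1]
  have hone : ∀ m < 4, F.coeff m = 1 := by
    have h3 : F.coeff 3 = 1 := by rw [← hdeg]; exact hF
    have he : F.eval 1 = 1 := by
      have := smul_left_injective K hu0 (hco 3 (by norm_num))
      rw [← this, h3]
    intro m hm
    exact (smul_left_injective K hu0 (hco m hm)).trans he
  have h1 := h 1 (by norm_num) one_ne_zero
  rw [pow_one, aeval_eq_sum_range' (n := 4) (by omega)] at h1
  simp only [Finset.sum_range_succ, Finset.sum_range_zero, hone 0 (by norm_num),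
    hone 1 (by norm_num), hone 2 (by norm_num), hone 3 (by norm_num), one_smul, zero_add,
    pow_zero, pow_one, LinearMap.add_apply, Module.End.one_apply] at h1
  have h4 : (f ^ 4) u = u := by
    have h2 := congrArg f h1
    simp only [map_add, map_zero] at h2
    have hp : ∀ i : ℕ, f ((f ^ i) u) = (f ^ (i + 1)) u := fun i => by
      rw [pow_succ']; rfl
    rw [hp, hp, ← Module.End.mul_apply, ← pow_two] at h2
    have := h2.trans h1.symm
    have h5 : (f ^ 4) u - u = 0 := by
      rw [← sub_eq_zero] at this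
      rw [← this]; norm_num; abel
    exact sub_eq_zero.1 h5
  refine hu0 (eq_zero_of_fixed h7 hK hu ?_)
  have h8 : (f ^ 8) u = u := by
    rw [show 8 = 4 + 4 from rfl, pow_add, Module.End.mul_apply, h4, h4]
  rwa [pow_succ, h7, one_mul] at h8

theorem exists_cubic {u : V} (hu : avg f u = 0) :
    ∃ F : K[X], F.Monic ∧ F.natDegree = 3 ∧ aeval f F u = 0 := by
  have hmem : ∀ x ∈ LinearMap.ker (avg f), f x ∈ LinearMap.ker (avg f) := fun x hx => by
    rwa [LinearMap.mem_ker, avg_apply_f h7]
  refine ⟨(LinearMap.restrict f hmem).charpoly, LinearMap.charpoly_monic _,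
    (LinearMap.charpoly_natDegree _).trans (finrank_moved h7 hK hV hne), ?_⟩
  have h := DFunLike.congr_fun (LinearMap.aeval_self_charpoly (LinearMap.restrict f hmem))
    ⟨u, hu⟩
  have key : ∀ (p : K[X]) (x : LinearMap.ker (avg f)),
      ((aeval (LinearMap.restrict f hmem) p x : LinearMap.ker (avg f)) : V) = aeval f p x := by
    intro p
    induction p using Polynomial.induction_on with
    | C a => intro x; simp
    | add a b ha hb => intro x; simp [ha, hb]
    | monomial n a ih =>
      intro x
      simp only [pow_succ, ← mul_assoc, map_mul, aeval_X, Module.End.mul_apply]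
      simp only [map_mul] at ih
      exact (ih _).trans rfl
  rw [← key _ ⟨u, hu⟩, h]
  rfl

end

omit [Module.Finite K V] in
theorem aeval_pow_nine (hK : Fintype.card K = 9) (f : Module.End K V) (q : K[X]) :
    aeval f q ^ 9 = aeval (f ^ 9) q := by
  rw [← map_pow, ← hK, ← FiniteField.expand_card, expand_aeval]

end Cfsg.Agent.U43Seven
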